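import Groth.Agent.SGA3.K209.Words
import Groth.Agent.S1386
import Groth.Agent.S0386
import Groth.Agent.Flat2D.LfpComp
import Mathlib.AlgebraicGeometry.Noetherian

/-!
# Bounded word length in a quasi-compact group scheme

`f : X ⟶ H` with `X` flat and locally of finite presentation, `H` a group scheme locally of finite
presentation with reduced fibres.  If every point of `H` lies under a word in `f` and `H` is
quasi-compact then the length of the words can be bounded.
-/

set_option autoImplicit false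

universe u

open CategoryTheory CategoryTheory.Limits MonoidalCategory CartesianMonoidalCategory MonObj GrpObj
open AlgebraicGeometry TopologicalSpace Topology

namespace K393.WordBound

open K209.Words Groth.Agent

theorem flat_of_isField {R A : Type u} [CommRing R] [CommRing A] (h : IsField R) (φ : R →+* A) :
    φ.Flat := by
  let _ := h.toField
  algebraize [φ]
  exact (inferInstance : Module.Flat R A)

/-- A reduced nonempty scheme has a point whose local ring is a field. -/
theorem exists_isField_stalk (U : Scheme.{u}) [Nonempty U] [IsReduced U] :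
    ∃ u : U, IsField (U.presheaf.stalk u) := by
  let x : U := Classical.arbitrary U
  have hI : IsIrreducible (irreducibleComponent x) := isIrreducible_irreducibleComponent
  refine ⟨hI.genericPoint, isField_stalk_of_closure_mem_irreducibleComponents U _ ?_⟩
  have h : closure ({hI.genericPoint} : Set U) = irreducibleComponent x :=
    hI.genericPoint_closure_eq.trans isClosed_irreducibleComponent.closure_eq
  rw [h]
  exact irreducibleComponent_mem_irreducibleComponents x

theorem isField_asFiber {Y S : Scheme.{u}} (g : Y ⟶ S) (s : S) (z : g.fiber s)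
    (hf : IsField ((g.fiber s).presheaf.stalk z)) (y : Y) (h : g.fiberι s z = y) :
    IsField ((g.fiber (g y)).presheaf.stalk (g.asFiber y)) := by
  have hs : s = g y := by
    rw [← h, ← Scheme.Hom.comp_apply, g.fiber_fac s, Scheme.Hom.comp_apply,
      Scheme.fromSpecResidueField_apply]
  subst hs
  have : g.asFiber y = z := (g.fiberι (g y)).isEmbedding.injective
    ((g.fiberι_asFiber y).trans h.symm)
  rw [this]
  exact hf

theorem flat_of_isField_asFiber {X Y S : Scheme.{u}} (f : X ⟶ Y) (g : Y ⟶ S)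
    [LocallyOfFinitePresentation (f ≫ g)] [LocallyOfFiniteType g] (x : X)
    (h1 : ((f ≫ g).stalkMap x).hom.Flat)
    (h2 : IsField ((g.fiber (g (f x))).presheaf.stalk (g.asFiber (f x)))) :
    (f.stalkMap x).hom.Flat := by
  refine (((S1386.result f g).1 x).mp ⟨h1, ?_⟩).2
  have e : MoreMor.fiberMap f g (g (f x)) ((f ≫ g).asFiber x) = g.asFiber (f x) := by
    apply (g.fiberι (g (f x))).isEmbedding.injective
    refine Eq.trans ?_ (g.fiberι_asFiber (f x)).symm
    have e1 : MoreMor.fiberMap f g (g (f x)) ≫ g.fiberι (g (f x)) =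
        (f ≫ g).fiberι (g (f x)) ≫ f := pullback.lift_fst _ _ _
    have e2 : (f ≫ g).fiberι (g (f x)) ((f ≫ g).asFiber x) = x := (f ≫ g).fiberι_asFiber x
    refine (congrArg (fun k : (f ≫ g).fiber (g (f x)) ⟶ Y => k ((f ≫ g).asFiber x)) e1).trans ?_
    exact congrArg f e2
  have h3 : IsField ((g.fiber (g (f x))).presheaf.stalk
      (MoreMor.fiberMap f g (g (f x)) ((f ≫ g).asFiber x))) := by
    rw [e]; exact h2
  exact flat_of_isField h3 _

theorem flat_ι_comp {X Y : Scheme.{u}} (f : X ⟶ Y) (V : X.Opens)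
    (h : ∀ x ∈ V, (f.stalkMap x).hom.Flat) : Flat (V.ι ≫ f) := by
  rw [Flat.iff_flat_stalkMap]
  intro x
  have h1 : ((V.ι ≫ f).stalkMap x).hom = (V.ι.stalkMap x).hom.comp (f.stalkMap (V.ι x)).hom :=
    congrArg CommRingCat.Hom.hom (Scheme.Hom.stalkMap_comp V.ι f x)
  rw [h1]
  exact RingHom.Flat.comp (h _ x.2) (Flat.stalkMap V.ι x)

section Cart

variable {C : Type*} [Category C] [CartesianMonoidalCategory C]

theorem isPullback_whiskerRight {X Y : C} (f : X ⟶ Y) (Z : C) :
    IsPullback (f ▷ Z) (fst X Z) (fst Y Z) f := by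
  refine ⟨⟨by simp⟩, ⟨PullbackCone.IsLimit.mk _ (fun s => lift s.snd (s.fst ≫ snd Y Z)) ?_ ?_ ?_⟩⟩
  · intro s
    apply CartesianMonoidalCategory.hom_ext
    · simpa using s.condition.symm
    · simp
  · intro s
    simp
  · intro s m h1 h2
    apply CartesianMonoidalCategory.hom_ext
    · simpa using h2
    · rw [lift_snd, ← h1, Category.assoc, whiskerRight_snd]

variable {H P : C} [GrpObj H]

/-- `(h, p) ↦ h · w(p)` is isomorphic to the first projection. -/
noncomputable def shear (w : P ⟶ H) : H ⊗ P ≅ H ⊗ P where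
  hom := lift (fst H P * (snd H P ≫ w)) (snd H P)
  inv := lift (fst H P * (snd H P ≫ w)⁻¹) (snd H P)
  hom_inv_id := by
    apply CartesianMonoidalCategory.hom_ext
    · rw [Category.assoc, lift_fst, MonObj.comp_mul, GrpObj.comp_inv, lift_fst, lift_snd_assoc,
        mul_inv_cancel_right, Category.id_comp]
    · simp
  inv_hom_id := by
    apply CartesianMonoidalCategory.hom_ext
    · rw [Category.assoc, lift_fst, MonObj.comp_mul, lift_fst, lift_snd_assoc,
        inv_mul_cancel_right, Category.id_comp]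
    · simp

theorem shear_fst (w : P ⟶ H) : (shear w).hom ≫ fst H P = fst H P * (snd H P ≫ w) := by
  simp [shear]

end Cart

variable {S : Scheme.{u}} {X H : Over S} [GrpObj H] (f : X ⟶ H)

theorem wv_append {T : Over S} {n m : ℕ} (x : Fin n → (T ⟶ X)) (x' : Fin m → (T ⟶ X))
    (ε : Fin n → Bool) (ε' : Fin m → Bool) :
    wv f (Fin.append x x') (Fin.append ε ε') = wv f x ε * wv f x' ε' := by
  rw [wv, wv, wv, ← List.prod_append, ← List.ofFn_fin_append]
  congr 2
  funext j
  refine Fin.addCases (fun i => ?_) (fun i => ?_) j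
  · simp
  · simp

/-- The product of a flat morphism with a word map is open. -/
theorem isOpen_range_mul {U P : Over S} (a : U ⟶ H) (w : P ⟶ H) [Flat a.left]
    [LocallyOfFinitePresentation a.left] [Flat P.hom] [LocallyOfFinitePresentation P.hom] :
    IsOpen (Set.range ((fst U P ≫ a) * (snd U P ≫ w)).left.base) := by
  have e : (fst U P ≫ a) * (snd U P ≫ w) = (a ▷ P) ≫ (shear w).hom ≫ fst H P := by
    rw [shear_fst, MonObj.comp_mul, whiskerRight_fst, whiskerRight_snd_assoc]
  have h1 : IsPullback (a ▷ P).left (fst U P).left (fst H P).left a.left :=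
    (isPullback_whiskerRight a P).map (Over.forget S)
  have f1 : Flat (a ▷ P).left := MorphismProperty.of_isPullback h1.flip ‹_›
  have f2 : LocallyOfFinitePresentation (a ▷ P).left := MorphismProperty.of_isPullback h1.flip ‹_›
  have f3 : IsIso (shear w).hom.left := inferInstanceAs (IsIso ((Over.forget S).map (shear w).hom))
  have f4 : Flat (fst H P).left := by
    rw [Over.fst_left]; infer_instance
  have f5 : LocallyOfFinitePresentation (fst H P).left := by
    rw [Over.fst_left]; infer_instance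
  rw [e]
  have h2 : Flat ((a ▷ P) ≫ (shear w).hom ≫ fst H P).left := by
    rw [Over.comp_left, Over.comp_left]; infer_instance
  have h3 : LocallyOfFinitePresentation ((a ▷ P) ≫ (shear w).hom ≫ fst H P).left := by
    rw [Over.comp_left, Over.comp_left]; infer_instance
  exact (((a ▷ P) ≫ (shear w).hom ≫ fst H P).left.isOpenMap).isOpen_range

/-- Over every point of `S` there is a point of some word scheme at which the word map is flat. -/
theorem exists_flat_word [Flat X.hom] [LocallyOfFinitePresentation X.hom]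
    [LocallyOfFinitePresentation H.hom] (hred : ∀ s : S, IsReduced (H.hom.fiber s))
    (hsurj : ∀ h : H.left, ∃ n : ℕ, h ∈ W f n) (s : S) :
    ∃ (n : ℕ) (ε : Fin n → Bool) (q : (P X n).left), (P X n).hom q = s ∧
      ((uw f n ε).left.stalkMap q).hom.Flat := by
  have hne : Nonempty (H.hom.fiber s) := by
    have h1 : (η[H] : 𝟙_ (Over S) ⟶ H).left ≫ H.hom = 𝟙 S := Over.w η[H]
    have h2 : H.hom ((η[H] : 𝟙_ (Over S) ⟶ H).left s) = s := by
      rw [← Scheme.Hom.comp_apply, h1]; rfl
    have h3 := H.hom.asFiber ((η[H] : 𝟙_ (Over S) ⟶ H).left s)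
    rw [h2] at h3
    exact ⟨h3⟩
  have := hred s
  obtain ⟨z, hz⟩ := exists_isField_stalk (H.hom.fiber s)
  obtain ⟨n, hn⟩ := hsurj (H.hom.fiberι s z)
  rw [mem_W_iff] at hn
  obtain ⟨ε, q, hq⟩ := hn
  have hq' : (uw f n ε).left q = H.hom.fiberι s z := hq
  have hw : (uw f n ε).left ≫ H.hom = (P X n).hom := Over.w _
  have h1 : LocallyOfFinitePresentation ((uw f n ε).left ≫ H.hom) := by
    rw [hw]; infer_instance
  have h2 : Flat ((uw f n ε).left ≫ H.hom) := by
    rw [hw]; infer_instance
  refine ⟨n, ε, q, ?_, ?_⟩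
  · rw [← hw, Scheme.Hom.comp_apply, hq', ← Scheme.Hom.comp_apply, H.hom.fiber_fac s,
      Scheme.Hom.comp_apply, Scheme.fromSpecResidueField_apply]
  · exact flat_of_isField_asFiber _ _ q (Flat.stalkMap _ q)
      (isField_asFiber H.hom s z hz _ hq'.symm)

/-- An open neighbourhood of a point all of whose points lie under words of a fixed length. -/
theorem exists_open_subset_W [Flat X.hom] [LocallyOfFinitePresentation X.hom]
    [LocallyOfFinitePresentation H.hom] (hred : ∀ s : S, IsReduced (H.hom.fiber s))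
    (hsurj : ∀ h : H.left, ∃ n : ℕ, h ∈ W f n) (h : H.left) :
    ∃ (n : ℕ) (O : Set H.left), IsOpen O ∧ h ∈ O ∧ O ⊆ W f n := by
  obtain ⟨n, ε, q, hqs, hq⟩ := exists_flat_word f hred hsurj (H.hom h)
  have hw : (uw f n ε).left ≫ H.hom = (P X n).hom := Over.w _
  have hlfp : LocallyOfFinitePresentation (uw f n ε).left := by
    have : LocallyOfFinitePresentation ((uw f n ε).left ≫ H.hom) := by
      rw [hw]; infer_instance
    exact Flat2D.LfpComp.lfp_of_comp (uw f n ε).left H.hom
  let V : (P X n).left.Opens := ⟨_, S0386.result (uw f n ε).left⟩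
  let U : Over S := Over.mk (V.ι ≫ (P X n).hom)
  let jU : U ⟶ P X n := Over.homMk V.ι rfl
  let a : U ⟶ H := jU ≫ uw f n ε
  have ha : a.left = V.ι ≫ (uw f n ε).left := rfl
  have fa : Flat a.left := by
    rw [ha]
    exact flat_ι_comp (uw f n ε).left V fun x hx => hx
  have la : LocallyOfFinitePresentation a.left := by rw [ha]; infer_instance
  -- the point `t₁` of `H ×_S U` over `h` and `q`
  obtain ⟨t₁, ht1, ht2⟩ := Scheme.Pullback.exists_preimage_pullback (f := H.hom) (g := U.hom) h
    (⟨q, hq⟩ : V) (by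
      change H.hom h = (V.ι ≫ (P X n).hom) (⟨q, hq⟩ : V)
      rw [← hqs]
      rfl)
  let y : H ⊗ U ⟶ H := (snd H U ≫ a)⁻¹ * fst H U
  obtain ⟨m, hm⟩ := hsurj (y.left t₁)
  rw [mem_W_iff] at hm
  obtain ⟨ε', p, hp⟩ := hm
  have hp' : y.left t₁ = (uw f m ε').left p := hp.symm
  obtain ⟨t₂, ht3, ht4⟩ := Scheme.Pullback.exists_preimage_pullback t₁ p hp'
  let T₂ : Over S := Over.mk (pullback.fst y.left (uw f m ε').left ≫ (H ⊗ U).hom)
  let b₁ : T₂ ⟶ H ⊗ U := Over.homMk (pullback.fst y.left (uw f m ε').left) rfl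
  let b₂ : T₂ ⟶ P X m := Over.homMk (pullback.snd y.left (uw f m ε').left) (by
    have e1 : pullback.fst y.left (uw f m ε').left ≫ y.left ≫ H.hom =
        pullback.snd y.left (uw f m ε').left ≫ (uw f m ε').left ≫ H.hom := by
      rw [pullback.condition_assoc]
    rw [Over.w, Over.w] at e1
    exact e1.symm)
  have hb : b₁ ≫ y = b₂ ≫ uw f m ε' := by
    ext1
    exact pullback.condition
  let μ₀ : U ⊗ P X m ⟶ H := (fst U (P X m) ≫ a) * (snd U (P X m) ≫ uw f m ε')
  let z : T₂ ⟶ U ⊗ P X m := lift (b₁ ≫ snd H U) b₂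
  have hz : z ≫ μ₀ = b₁ ≫ fst H U := by
    change z ≫ ((fst U (P X m) ≫ a) * (snd U (P X m) ≫ uw f m ε')) = _
    rw [MonObj.comp_mul, lift_fst_assoc, lift_snd_assoc, ← hb, Category.assoc, ← MonObj.comp_mul,
      mul_inv_cancel_left]
  have hop := isOpen_range_mul a (uw f m ε')
  refine ⟨n + m, _, hop, ⟨z.left t₂, ?_⟩, ?_⟩
  · have e2 : (z ≫ μ₀).left t₂ = (b₁ ≫ fst H U).left t₂ := by rw [hz]
    have e3 : (b₁ ≫ fst H U).left t₂ = h := by
      rw [Over.comp_left, Scheme.Hom.comp_apply]
      change (fst H U).left (pullback.fst y.left (uw f m ε').left t₂) = h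
      rw [ht3, Over.fst_left]
      exact ht1
    rw [e3, Over.comp_left, Scheme.Hom.comp_apply] at e2
    exact e2
  · rintro _ ⟨r, rfl⟩
    refine ⟨U ⊗ P X m, r, Fin.append (fun j => (fst U (P X m) ≫ jU) ≫ pr X n j)
      (fun j => snd U (P X m) ≫ pr X m j), Fin.append ε ε', ?_⟩
    rw [wv_append, ← comp_wv, ← comp_wv]
    rfl

theorem exists_bound [Flat X.hom] [LocallyOfFinitePresentation X.hom]
    [LocallyOfFinitePresentation H.hom] (hred : ∀ s : S, IsReduced (H.hom.fiber s))
    [CompactSpace H.left] (hsurj : ∀ h : H.left, ∃ n : ℕ, h ∈ W f n) :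
    ∃ n : ℕ, ∀ h : H.left, ∃ m ≤ n, h ∈ W f m := by
  choose N O hO hmem hsub using fun h => exists_open_subset_W f hred hsurj h
  obtain ⟨t, ht⟩ := CompactSpace.elim_nhds_subcover O (fun h => (hO h).mem_nhds (hmem h))
  refine ⟨t.sup N, fun h => ?_⟩
  have h1 : h ∈ ⋃ x ∈ t, O x := by rw [ht]; trivial
  simp only [Set.mem_iUnion] at h1
  obtain ⟨x, hx, hxO⟩ := h1
  exact ⟨N x, Finset.le_sup hx, hsub x hxO⟩

end K393.WordBound
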